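import Cfsg.Agent.Co2Type.FactsCo2

/-!
# Kernel checks in the Sylow 2-subgroup `T = E : T22` of `Spor.Co2` for the sheet of kind D4

`y = ge my` (2B), `v = ge mv` (2C).
* `chkD1`, `chkD2`: every mask of weight 12 has at least 8 images under `T22`.
* `chkPy`, `chkZy`, `chkPv`, `chkZv`: the centre of `C_T(y)/⟨y⟩` and of `C_T(v)/⟨v⟩`.
* `chkGy`, `chkGv`: some permutations stabilising `my`, `mv`.
-/

set_option autoImplicit false

namespace Cfsg.Agent.KFacts.Co2D4

open Cfsg Cfsg.Agent.SporadicA.GolayBase Cfsg.Agent.SporadicA.GolayPerm
open Cfsg.Agent.SporadicStructure.M24El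
open Cfsg.Agent.Co2Type.Mono Cfsg.Agent.Co2Type.TData Cfsg.Agent.Co2Type.TGroup

/-! ### enumeration of the span with a vector of images -/

/-- componentwise exclusive or -/
def xorL : List ℕ → List ℕ → List ℕ
  | a :: l, b :: m => Nat.xor a b :: xorL l m
  | _, _ => []

/-- enumeration of the span with a vector of images -/
def allSpV : List (ℕ × List ℕ) → (ℕ → List ℕ → Bool) → ℕ → List ℕ → Bool
  | [], f, a, L => f a L
  | b :: l, f, a, L => allSpV l f a L && allSpV l f (Nat.xor a b.1) (xorL L b.2)

theorem allSpV_spec {g : ℕ → List ℕ} (hg : ∀ a b, g (a ^^^ b) = xorL (g a) (g b)) {f : ℕ → List ℕ → Bool}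
    {l : List ℕ} : ∀ {a : ℕ}, allSpV (l.map fun b => (b, g b)) f a (g a) = true →
    ∀ s, Sp l s → f (a ^^^ s) (g (a ^^^ s)) = true := by
  induction l with
  | nil =>
    intro a h s hs
    have hs' : s = 0 := hs
    rw [hs', Nat.xor_zero]
    exact h
  | cons b l ih =>
    intro a h s hs
    rw [List.map_cons, allSpV, Bool.and_eq_true] at h
    rcases hs with hs | hs
    · exact ih h.1 s hs
    · have h2 : allSpV (l.map fun b => (b, g b)) f (a ^^^ b) (g (a ^^^ b)) = true := by
        rw [hg]
        exact h.2
      have := ih h2 _ hs
      have e : (a ^^^ b) ^^^ (s ^^^ b) = a ^^^ s := by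
        rw [Nat.xor_comm s b, Nat.xor_assoc, ← Nat.xor_assoc b b s, Nat.xor_self, Nat.zero_xor]
      rw [e] at this
      exact this

/-- images of a mask under a list of permutations -/
def imgs (F : List ℕ) (m : ℕ) : List ℕ := F.map fun P => pimg P m

theorem imgs_xor {F : List ℕ} (hF : ∀ P ∈ F, isPerm P = true) (a b : ℕ) :
    imgs F (a ^^^ b) = xorL (imgs F a) (imgs F b) := by
  induction F with
  | nil => rfl
  | cons P F ih =>
    show pimg P (a ^^^ b) :: imgs F (a ^^^ b) = Nat.xor (pimg P a) (pimg P b) :: xorL (imgs F a) (imgs F b)
    rw [ih fun Q hQ => hF Q (List.mem_cons_of_mem _ hQ), pimg_xor (hF P List.mem_cons_self)]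
    rfl

/-! ### weight 12 -/

/-- permutations -/
def F1 : List ℕ := [959619509409746840813589757942155808, 980676928678807231551985948370782496,
  980275103625608021941000511577983360, 28938703177910768603823288503044631,
  984231322269954045815289618422139072, 984650895008759490611503713509263392,
  968906059754783499496158145773406432, 29016010236477684322332310400780471]

/-- permutations -/
def F2 : List ℕ := [28811938273965103996673333751253687, 968705771151016797870976040124910240,
  984650895008759490611503713509263392, 13239464237020258164500421254171191,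
  28615452505956953882339784038615287, 29188430317105160851323245249759703,
  28770106000223622339025476757293495, 968532103415166212953387901757524256]

/-- permutations -/
def F3 : List ℕ := [13697106504059178643103593268971575, 25374189043728842624340974963362071,
  984321324869319684017664638098442784, 980357500839201844836796314325158176,
  980756810379944117777721035102423232, 13811194628793137883129650039425431,
  980258604361933000183917870384793792, 980103950867666654833461843838749312]

/-- permutations -/
def F4 : List ℕ := [4397878906769683873783212478777847, 959643594695961039922085455018444960,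
  13523438049314291502554518243707383, 959911068711444872212952189343746240,
  959535863810603778319876622897580160, 968571400229892424521567095052929056,
  24917814620724622498132352154552983, 25044579290232334308461903838791831]

/-- the masks of weight 12 not covered by `F1` -/
def exc : List ℕ := [357820, 498974, 517724, 1357374, 1451486, 1466012, 2467182, 2481708, 2575820, 2593398,
  2615604, 3415470, 3434220, 3509220, 3535014, 3575374, 4912552, 4963416, 4966170, 5051380, 5073078, 5117534,
  5139740, 5157542, 5163492, 5827642, 5875146, 5889672, 6033356, 6059150, 6134150, 6152900, 6956410, 6970936,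
  7018440, 7215414, 7234164, 7879912, 7882666, 7933530, 8204822, 8210772, 8295236, 8316934]

/-- the images of the basis -/
def BV : List (ℕ × List ℕ) := [
  (4202192, [5309160, 1584464, 525274, 7473194, 6344194, 4241960, 4361520, 4441280]),
  (2101096, [5833010, 126216, 2101096, 1230376, 1060490, 145176, 5939296, 2268296]),
  (1050548, [4538962, 1525008, 3147996, 1103886, 3189796, 361272, 5249380, 2512448]),
  (525274, [722544, 5262104, 4202192, 1805314, 2664522, 567074, 1608104, 2769128]),
  (267634, [4325622, 1134148, 2365978, 2605066, 1369154, 10558, 5538256, 2168036]),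
  (138790, [5709954, 337856, 2232654, 3227948, 1134148, 2365978, 4325622, 504864]),
  (72588, [1903248, 2384216, 36294, 3189796, 2255372, 1351424, 1722420, 2605066]),
  (36294, [5640752, 290352, 72588, 231532, 2106966, 307594, 5409412, 2409888]),
  (21116, [884962, 1378634, 2106966, 3294342, 1103886, 290352, 2654580, 463064]),
  (10558, [4063314, 1405448, 2120980, 115766, 1090380, 267634, 1769924, 3444840])]

theorem chkBV : (B10.map fun b => (b, imgs F1 b)) = BV := by decide +kernel

theorem chkF : ((F1 ++ F2 ++ F3 ++ F4).all fun P => memL P L22) = true := by decide +kernel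

theorem chkD1 : allSpV BV (fun c L => cond (Nat.beq (popcount c) 12) (nodupL L || memL c exc) true) 0
    [0, 0, 0, 0, 0, 0, 0, 0] = true := by decide +kernel

theorem chkD2 : (exc.all fun c => nodupL (imgs F2 c) || nodupL (imgs F3 c) || nodupL (imgs F4 c)) = true := by
  decide +kernel

/-! ### the centre of `C_T(y)/⟨y⟩`, `C_T(v)/⟨v⟩` -/

/-- `x ∈ {0, w}` -/
def inW (w x : ℕ) : Bool := Nat.beq x 0 || Nat.beq x w

theorem inW_iff {w x : ℕ} : inW w x = true ↔ x = 0 ∨ x = w := by
  unfold inW
  rw [Bool.or_eq_true, Nat.beq_eq, Nat.beq_eq]

/-- permutations stabilising `my` -/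
def PY1 : ℕ := 24846825968022034463888068564044087
/-- permutations stabilising `my` -/
def PY2 : ℕ := 959894609041950200578829698494826528
/-- permutation stabilising `mv` -/
def PV1 : ℕ := 968857869518658512448487429098915968

/-- masks -/
def Zy : List ℕ := [0, 31554, 3375280, 3406834, 4726026, 4744776, 8101306, 8120056]
/-- masks -/
def Zv : List ℕ := [0, 277580, 3406834, 3655614, 4966170, 5241686, 7879912, 8126628]

theorem chkMem : (memL PY1 L22 && (memL PY2 L22 && memL PV1 L22) && (Nat.beq (pimg PY1 my) my &&
    (Nat.beq (pimg PY2 my) my && Nat.beq (pimg PV1 mv) mv))) = true := by decide +kernel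

theorem chkPy : (L22.all fun P => Nat.beq P idP || B10.any fun n => !(inW my (Nat.xor n (pimg P n)))) = true := by
  decide +kernel

theorem chkPv : (L22.all fun P => Nat.beq P idP || B10.any fun n => !(inW mv (Nat.xor n (pimg P n)))) = true := by
  decide +kernel

theorem chkZy : allSp2 (B10.map fun b => (b, pimg PY1 b)) (fun m m' => cond (inW my (Nat.xor m m'))
    (cond (inW my (Nat.xor m (pimg PY2 m))) (memL m Zy) true) true) 0 0 = true := by decide +kernel

theorem chkZv : allSp2 (B10.map fun b => (b, pimg PV1 b)) (fun m m' => cond (inW mv (Nat.xor m m'))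
    (memL m Zv) true) 0 0 = true := by decide +kernel

/-! ### conjugating permutations -/

/-- permutation of `M22:2` -/
def GY : ℕ := 981486382932547391085808379178912096
/-- permutation of `M22:2` -/
def GV1 : ℕ := 983136979590875387160845781586780288
/-- permutation of `M22:2` -/
def GV2 : ℕ := 13240909570316232578060630151758935

theorem chkGy : (okP GY && Nat.blt GY (2 ^ 120) && Nat.beq (pimg GY my) my && inE (pimg GY mp) &&
    Nat.beq (popcount (Nat.xor (Nat.xor mp (pimg GY mp)) my)) 16) = true := by decide +kernel

theorem chkGv : (okP GV1 && Nat.blt GV1 (2 ^ 120) && Nat.beq (pimg GV1 mv) mv && okP GV2 && Nat.blt GV2 (2 ^ 120) &&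
    Nat.beq (pimg GV2 mv) mv && inE (pimg GV1 277580) && inE (pimg GV2 277580) && inE 277580 &&
    Nat.beq (popcount (Nat.xor (Nat.xor 277580 (pimg GV1 277580)) (pimg GV2 277580))) 16) = true := by
  decide +kernel

end Cfsg.Agent.KFacts.Co2D4
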