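import Cfsg.Agent.OddHalf.D4.Spor.Sheet
import Cfsg.Agent.Co2Type.Quad
import Cfsg.Agent.S0028
import Cfsg.Agent.KFacts.Co3D4.Glevel
import Cfsg.Agent.Lib.NormalAbelian

/-!
# General lemmas for the sheets of kind D4

* `exists_v`: `N` normal in `C(w)`, `w ∈ N`, `4 ∣ |N|`, `S` a Sylow 2-subgroup of `C(w)`: there is `v ∈ N ∩ S`, not in
  `{1, w}`, central in `S` modulo `⟨w⟩`.
* `Bad.conj`, `Bad.of_isConj`: transport.
* `eq_one_of_large`: `C(z)` with a large extraspecial subgroup: `C(z) ∩ O(C(w)) = 1` for `w ∈ C(z)`.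
-/

set_option autoImplicit false

namespace Cfsg.Agent.KFacts.Co2D4

open Subgroup
open Cfsg.Agent.OddHalf.D4.Spor (Cen Bad)

variable {X : Type*} [Group X]

/-- transport of `Bad` -/
theorem bad_conj [Finite X] {w : X} {N : Subgroup X} (h : Bad w N) (g : X) :
    Bad (g * w * g⁻¹) (N.map (MulAut.conj g).toMonoidHom) where
  sq := by
    have : g * w * g⁻¹ * (g * w * g⁻¹) = g * (w * w) * g⁻¹ := by group
    rw [this, h.sq]; group
  ne := fun h1 => h.ne (by
    calc w = g⁻¹ * (g * w * g⁻¹) * g := by group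
      _ = 1 := by rw [h1]; group)
  mem := ⟨w, h.mem, rfl⟩
  le := by
    rintro _ ⟨n, hn, rfl⟩
    have h1 := h.le n hn
    show g * n * g⁻¹ * (g * w * g⁻¹) = g * w * g⁻¹ * (g * n * g⁻¹)
    calc g * n * g⁻¹ * (g * w * g⁻¹) = g * (n * w) * g⁻¹ := by group
      _ = g * (w * n) * g⁻¹ := by rw [h1]
      _ = _ := by group
  norm := by
    rintro c hc _ ⟨n, hn, rfl⟩
    refine ⟨(g⁻¹ * c * g) * n * (g⁻¹ * c * g)⁻¹, h.norm _ ?_ n hn, ?_⟩
    · calc g⁻¹ * c * g * w = g⁻¹ * (c * (g * w * g⁻¹)) * g := by group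
        _ = g⁻¹ * ((g * w * g⁻¹) * c) * g := by rw [hc]
        _ = _ := by group
    · show g * ((g⁻¹ * c * g) * n * (g⁻¹ * c * g)⁻¹) * g⁻¹ = c * (g * n * g⁻¹) * c⁻¹
      group
  four := by
    rw [← Nat.card_congr (N.equivMapOfInjective _ (MulAut.conj g).injective).toEquiv]
    exact h.four
  non := by
    rintro _ ⟨b, hb, rfl⟩ h2 h1 hc
    have h2' : g * b * g⁻¹ * (g * b * g⁻¹) = 1 := h2
    refine h.non b hb ?_ ?_ ?_
    · calc b * b = g⁻¹ * (g * b * g⁻¹ * (g * b * g⁻¹)) * g := by group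
        _ = 1 := by rw [h2']; group
    · rintro rfl
      apply h1
      exact map_one (MulAut.conj g).toMonoidHom
    · have h3 := KFacts.Co3D4.conj_cen hc g⁻¹
      have h4 : g⁻¹ * ((MulAut.conj g).toMonoidHom b) * g⁻¹⁻¹ = b := by
        show g⁻¹ * (g * b * g⁻¹) * g⁻¹⁻¹ = b
        group
      rwa [h4] at h3

theorem bad_of_isConj [Finite X] {w w' : X} {N : Subgroup X} (h : Bad w N) (hc : IsConj w w') :
    ∃ N', Bad w' N' := by
  obtain ⟨g, rfl⟩ := isConj_iff.1 hc
  exact ⟨_, bad_conj h g⟩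

theorem cen_of_isConj [Finite X] {w w' : X} (h : Cen w) (hc : IsConj w w') : Cen w' := by
  obtain ⟨g, rfl⟩ := isConj_iff.1 hc
  exact KFacts.Co3D4.conj_cen h g

/-- **An element central modulo `w`.** `S ≤ C(w)` is a maximal 2-subgroup of `C(w)`. -/
theorem exists_v [Finite X] {w : X} {N : Subgroup X} (h : Bad w N) {S : Subgroup X} (hS : IsPGroup 2 ↥S)
    (hSw : ∀ s ∈ S, s * w = w * s)
    (hmax : ∀ P : Subgroup X, IsPGroup 2 ↥P → S ≤ P → (∀ s ∈ P, s * w = w * s) → P = S) :
    ∃ v ∈ N, v ∈ S ∧ v ≠ 1 ∧ v ≠ w ∧ ∀ s ∈ S, s * v * s⁻¹ = v ∨ s * v * s⁻¹ = v * w := by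
  have : Fact (Nat.Prime 2) := ⟨Nat.prime_two⟩
  let C := centralizer ({w} : Set X)
  have hSC : S ≤ C := fun s hs => mem_centralizer_singleton_iff.2 (hSw s hs)
  -- `S` as a Sylow subgroup of `C`
  let TS : Sylow 2 C :=
    { toSubgroup := S.subgroupOf C
      isPGroup' := hS.comap_of_injective C.subtype C.subtype_injective
      is_maximal' := by
        intro P hP hle
        have h1 := hmax (P.map C.subtype) (hP.map _) ?_ ?_
        · rw [← h1]
          ext x
          rw [mem_subgroupOf]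
          constructor
          · intro hx
            exact ⟨x, hx, rfl⟩
          · rintro ⟨y, hy, hyx⟩
            have : y = x := Subtype.ext hyx
            rwa [← this]
        · intro s hs
          exact ⟨⟨s, hSC hs⟩, hle hs, rfl⟩
        · rintro _ ⟨y, -, rfl⟩
          exact mem_centralizer_singleton_iff.1 y.2 }
  have hNC : N ≤ C := fun n hn => mem_centralizer_singleton_iff.2 (h.le n hn)
  -- a subgroup of order 4
  obtain ⟨V, hV⟩ := Sylow.exists_subgroup_card_pow_prime (G := ↥N) 2 (n := 2) (by simpa using h.four)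
  have hVp : IsPGroup 2 ↥V := by rw [IsPGroup.iff_card]; exact ⟨2, hV⟩
  let V1 : Subgroup C := (V.map N.subtype).subgroupOf C
  have hV1le : V.map N.subtype ≤ C := by
    rintro _ ⟨v, -, rfl⟩
    exact hNC v.2
  have hV1p : IsPGroup 2 ↥V1 := (hVp.map N.subtype).comap_of_injective C.subtype C.subtype_injective
  have hV1card : Nat.card ↥V1 = 4 := by
    rw [Nat.card_congr (subgroupOfEquivOfLe hV1le).toEquiv,
      ← Nat.card_congr (V.equivMapOfInjective _ N.subtype_injective).toEquiv, hV]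
    norm_num
  obtain ⟨Q, hQ⟩ := hV1p.exists_le_sylow
  obtain ⟨c, hc⟩ := MulAction.exists_smul_eq C Q TS
  have hc' : ∀ x : C, x ∈ V1 → (c : X) * x * (c : X)⁻¹ ∈ S := by
    intro x hx
    have h1 : c * x * c⁻¹ ∈ ((c • Q : Sylow 2 C) : Subgroup C) := by
      rw [Sylow.smul_def]
      exact smul_mem_pointwise_smul x (MulAut.conj c) _ (hQ hx)
    rw [hc] at h1
    exact h1
  -- `K = N ∩ S` as a subgroup of `S`
  let K : Subgroup ↥S := N.subgroupOf S
  have hKn : K.Normal := by
    refine ⟨?_⟩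
    intro n hn g
    rw [mem_subgroupOf] at hn ⊢
    exact h.norm g (hSw g g.2) n hn
  have hwS : w ∈ S := by
    have h1 : IsPGroup 2 ↥(S ⊔ zpowers w) := by
      have hw : IsPGroup 2 ↥(zpowers w) := by
        rw [IsPGroup.iff_card]
        exact ⟨1, by rw [Nat.card_zpowers, pow_one]; exact orderOf_eq_prime (by rw [pow_two]; exact h.sq) h.ne⟩
      apply hS.to_sup_of_normal_left' hw
      rw [zpowers_le, mem_normalizer_iff]
      have h3 : ∀ x ∈ S, w * x * w⁻¹ = x := by
        intro x hx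
        rw [← hSw x hx]; group
      intro x
      constructor
      · intro hx
        rw [h3 x hx]; exact hx
      · intro hx
        have h4 := h3 _ hx
        have h5 : w * x * w⁻¹ = x := mul_left_cancel (mul_right_cancel h4)
        rwa [h5] at hx
    have h2 := hmax _ h1 le_sup_left (by
      intro s hs
      have h3 : S ⊔ zpowers w ≤ C := sup_le hSC (by rw [zpowers_le]; exact mem_centralizer_singleton_iff.2 rfl)
      exact mem_centralizer_singleton_iff.1 (h3 hs))
    rw [← h2]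
    exact mem_sup_right (mem_zpowers w)
  let w' : ↥S := ⟨w, hwS⟩
  have hwc : ∀ s : ↥S, s * w' = w' * s := fun s => Subtype.ext (hSw s s.2)
  have hWn : (zpowers w').Normal := by
    refine ⟨?_⟩
    intro n hn g
    obtain ⟨k, rfl⟩ := mem_zpowers_iff.1 hn
    have h1 : Commute g (w' ^ k) := (show Commute g w' from hwc g).zpow_right k
    rw [h1.eq, mul_inv_cancel_right]
    exact hn
  have hw2 : w' * w' = 1 := Subtype.ext h.sq
  have hmemW : ∀ x : ↥S, x ∈ zpowers w' ↔ x = 1 ∨ x = w' := by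
    intro x
    rw [SporRec.TwoSp6.Lift.mem_zpowers hw2]
  -- the image in `S / ⟨w⟩`
  have hp : IsPGroup 2 (↥S ⧸ zpowers w') := hS.to_quotient _
  have hnil : Group.IsNilpotent (↥S ⧸ zpowers w') := hp.isNilpotent
  have hKb : (K.map (QuotientGroup.mk' (zpowers w'))).Normal := hKn.map _ (QuotientGroup.mk'_surjective _)
  have hne : K.map (QuotientGroup.mk' (zpowers w')) ≠ ⊥ := by
    intro hbot
    have h1 : K ≤ zpowers w' := by
      intro x hx
      have h2 : QuotientGroup.mk' (zpowers w') x ∈ K.map (QuotientGroup.mk' (zpowers w')) := ⟨x, hx, rfl⟩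
      rw [hbot, mem_bot] at h2
      exact (QuotientGroup.eq_one_iff x).1 h2
    -- so `|V| ≤ 2`
    have h3 : ∀ x : C, x ∈ V1 → x = 1 ∨ (x : X) = w := by
      intro x hx
      have hxN : (x : X) ∈ N := by
        obtain ⟨v, -, hv⟩ := hx
        have : (v : X) = x := hv
        rw [← this]; exact v.2
      have h4 : (⟨(c : X) * x * (c : X)⁻¹, hc' x hx⟩ : ↥S) ∈ K :=
        h.norm c (mem_centralizer_singleton_iff.1 c.2) x hxN
      rcases (hmemW _).1 (h1 h4) with h5 | h5
      · left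
        have h6 : (c : X) * x * (c : X)⁻¹ = 1 := congrArg Subtype.val h5
        apply Subtype.ext
        show (x : X) = 1
        calc (x : X) = (c : X)⁻¹ * ((c : X) * x * (c : X)⁻¹) * c := by group
          _ = 1 := by rw [h6]; group
      · right
        have h6 : (c : X) * x * (c : X)⁻¹ = w := congrArg Subtype.val h5
        have h7 : (c : X) * w = w * c := mem_centralizer_singleton_iff.1 c.2
        calc (x : X) = (c : X)⁻¹ * ((c : X) * x * (c : X)⁻¹) * c := by group
          _ = (c : X)⁻¹ * (w * c) := by rw [h6]; group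
          _ = w := by rw [← h7]; group
    have hwC : w ∈ C := mem_centralizer_singleton_iff.2 rfl
    have hle : Nat.card ↥V1 ≤ 2 := by
      have : (V1 : Set C) ⊆ {1, ⟨w, hwC⟩} := fun x hx => by
        rcases h3 x hx with h4 | h4
        · exact Or.inl h4
        · exact Or.inr (Subtype.ext h4)
      calc Nat.card ↥V1 = (V1 : Set C).ncard := Nat.card_coe_set_eq _
        _ ≤ ({1, ⟨w, hwC⟩} : Set C).ncard := Set.ncard_le_ncard this (Set.toFinite _)
        _ ≤ 2 := by
          calc ({1, ⟨w, hwC⟩} : Set C).ncard ≤ ({⟨w, hwC⟩} : Set C).ncard + 1 := Set.ncard_insert_le _ _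
            _ = 2 := by rw [Set.ncard_singleton]
    omega
  have hmeet := Lib.NormalAbelian.normal_inf_center_ne_bot _ hne
  rw [Ne, eq_bot_iff_forall] at hmeet
  push Not at hmeet
  obtain ⟨q, ⟨⟨v, hvK, rfl⟩, hqc⟩, hq1⟩ := hmeet
  have hv1 : v ∉ zpowers w' := fun h1 => hq1 ((QuotientGroup.eq_one_iff v).2 h1)
  rw [hmemW] at hv1
  push Not at hv1
  refine ⟨v, hvK, v.2, fun h1 => hv1.1 (Subtype.ext h1), fun h1 => hv1.2 (Subtype.ext h1), ?_⟩
  intro s hs
  have h1 := mem_center_iff.1 hqc (QuotientGroup.mk' _ ⟨s, hs⟩)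
  rw [← map_mul, ← map_mul] at h1
  have h2 : (v * ⟨s, hs⟩)⁻¹ * (⟨s, hs⟩ * v) ∈ zpowers w' := (QuotientGroup.eq).1 h1.symm
  rcases (hmemW _).1 h2 with h3 | h3
  · left
    have h4 : (⟨s, hs⟩ : ↥S) * v = v * ⟨s, hs⟩ := by
      have := congrArg (fun t => (v * ⟨s, hs⟩) * t) h3
      simpa [mul_assoc] using this
    have h5 : s * (v : X) = v * s := congrArg Subtype.val h4
    rw [h5]; group
  · right
    have h4 : (⟨s, hs⟩ : ↥S) * v = v * ⟨s, hs⟩ * w' := by
      have := congrArg (fun t => (v * ⟨s, hs⟩) * t) h3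
      simpa [mul_assoc] using this
    have h5 : s * (v : X) = v * s * w := congrArg Subtype.val h4
    rw [h5, mul_assoc (v : X), hSw s hs, ← mul_assoc]
    group

/-- **Thompson's `A × B` lemma in the centraliser of a 2-central involution.** -/
theorem eq_one_of_large [Finite X] {Q : Subgroup X} {z w : X} (hL : Co2Type.Quad.Large Q z) (hQ : IsPGroup 2 ↥Q)
    (hw : w * w = 1) (hwz : w * z = z * w) {I : Subgroup X} (hI : ∀ i ∈ I, i * w = w * i)
    (hn : ∀ c, c * w = w * c → ∀ i ∈ I, c * i * c⁻¹ ∈ I) (hodd : Odd (Nat.card ↥I)) :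
    ∀ x ∈ I, x * z = z * x → x = 1 := by
  have : Fact (Nat.Prime 2) := ⟨Nat.prime_two⟩
  let J : Subgroup X := I ⊓ centralizer ({z} : Set X)
  have memJ : ∀ x, x ∈ J ↔ x ∈ I ∧ x * z = z * x := by
    intro x
    exact and_congr_right fun _ => mem_centralizer_singleton_iff
  have hJodd : Odd (Nat.card ↥J) := Odd.of_dvd_nat hodd (card_dvd_of_le inf_le_left)
  have hdisj : ∀ x ∈ I, x ∈ Q → x = 1 := by
    intro x hx hxQ
    have h1 : orderOf x ∣ Nat.card ↥I := by
      have := orderOf_dvd_natCard (⟨x, hx⟩ : ↥I)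
      rwa [Subgroup.orderOf_mk] at this
    obtain ⟨n, hn⟩ := hQ ⟨x, hxQ⟩
    have h2 : orderOf x ∣ 2 ^ n := by
      apply orderOf_dvd_of_pow_eq_one
      exact congrArg Subtype.val hn
    have h3 : Nat.Coprime (2 ^ n) (Nat.card ↥I) := Nat.Coprime.pow_left n (Nat.coprime_two_left.mpr hodd)
    exact orderOf_eq_one_iff.1 (Nat.eq_one_of_dvd_coprimes h3 h2 h1)
  have hwz' : w⁻¹ = w := inv_eq_of_mul_eq_one_left hw
  have hzp : ∀ p ∈ zpowers w, p = 1 ∨ p = w := fun p hp => (SporRec.TwoSp6.Lift.mem_zpowers hw).1 hp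
  have hcz : ∀ x : X, x * z = z * x → ∀ u, u ∈ Q ↔ x * u * x⁻¹ ∈ Q := by
    intro x hx u
    constructor
    · exact hL.conj_mem x hx u
    · intro hu
      have hx' : x⁻¹ * z = z * x⁻¹ := by
        calc x⁻¹ * z = x⁻¹ * (z * x) * x⁻¹ := by group
          _ = x⁻¹ * (x * z) * x⁻¹ := by rw [hx]
          _ = z * x⁻¹ := by group
      have h1 := hL.conj_mem x⁻¹ hx' _ hu
      have h2 : x⁻¹ * (x * u * x⁻¹) * x⁻¹⁻¹ = u := by group
      rwa [h2] at h1
  have hkey := Cfsg.Agent.S0028.result 2 (zpowers w) J Q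
    (by
      rw [IsPGroup.iff_card]
      rw [Nat.card_zpowers]
      have h1 : orderOf w ∣ 2 := orderOf_dvd_of_pow_eq_one (by rw [pow_two]; exact hw)
      rcases (Nat.dvd_prime Nat.prime_two).1 h1 with h2 | h2
      · exact ⟨0, by rw [h2]; norm_num⟩
      · exact ⟨1, by rw [h2]; norm_num⟩)
    (Nat.coprime_two_right.mpr hJodd) hQ
    (by
      rw [zpowers_le, mem_centralizer_iff]
      intro j hj
      exact hI j ((memJ j).1 hj).1)
    (by
      rw [zpowers_le, mem_normalizer_iff]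
      exact hcz w hwz)
    (by
      intro j hj
      rw [mem_normalizer_iff]
      exact hcz j ((memJ j).1 hj).2)
    (by
      rintro u ⟨huQ, huC⟩
      have huw : u * w = w * u := (mem_centralizer_iff.1 huC w (mem_zpowers w)).symm
      rw [mem_centralizer_iff]
      intro j hj
      obtain ⟨hjI, hjz⟩ := (memJ j).1 hj
      have h1 : j * (u * j⁻¹ * u⁻¹) ∈ I := I.mul_mem hjI (hn u huw _ (I.inv_mem hjI))
      have h2 : j * (u * j⁻¹ * u⁻¹) ∈ Q := by
        have h3 : j * (u * j⁻¹ * u⁻¹) = (j * u * j⁻¹) * u⁻¹ := by group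
        rw [h3]
        exact Q.mul_mem (hL.conj_mem j hjz u huQ) (Q.inv_mem huQ)
      have h3 := hdisj _ h1 h2
      calc j * u = j * (u * j⁻¹ * u⁻¹) * (u * j) := by group
        _ = u * j := by rw [h3, one_mul])
  intro x hx hxz
  apply hdisj x hx
  apply hL.self x hxz
  intro q hq
  exact (mem_centralizer_iff.1 (hkey ((memJ x).2 ⟨hx, hxz⟩)) q hq).symm

end Cfsg.Agent.KFacts.Co2D4
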