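import Cfsg.Agent.KFacts.Co2D4.Gen
import Cfsg.Agent.KFacts.Co2D4.Chk
import Cfsg.Agent.KFacts.CoTwo.RLarge
import Cfsg.Agent.Co2Type.SimpleCo2
import Cfsg.Agent.OddHalf.D4.Spor.OfBasic
import Cfsg.Agent.OddHalf.D4.Spor.Transport

/-!
# The sheet of kind D4 of `Co₂`

`T = E : T22` is the Sylow 2-subgroup of `Spor.Co2` of `Co2Type.TGroup`; `z = ge mz`, `y = ge my`, `v = ge mv` in `E` are
representatives of the three classes of involutions.
-/

set_option autoImplicit false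

namespace Cfsg.Agent.KFacts.Co2D4

open Cfsg Cfsg.Agent.SporadicA.GolayBase Cfsg.Agent.SporadicA.GolayPerm
open Cfsg.Agent.SporadicStructure.M24El
open Cfsg.Agent.Co2Type.Mono Cfsg.Agent.Co2Type.TData Cfsg.Agent.Co2Type.TGroup Cfsg.Agent.Co2Type.FactsD
open Cfsg.Agent.Co2Type.TCard Cfsg.Agent.Co2Type.FactsClass Cfsg.Agent.Co2Type.Facts
open Cfsg.Agent.OddHalf.D4.Spor (Cen Bad)
open Cfsg.Agent.OddHalf.D4

/-! ### 2-central involutions -/

theorem cen_z : Cen (ge mz) := ⟨TSyl, fun s hs => z_comm s hs⟩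

theorem finite_co2 : Finite Spor.Co2 := Nat.finite_of_card_ne_zero (by
  rw [Cfsg.Agent.Co2Type.CardCo2.card_co2]; norm_num)

theorem cen_of_A {x : Spor.Co2} (h : IsConj (ge mz) x) : Cen x := by
  have := finite_co2
  exact cen_of_isConj cen_z h

theorem A_of_pop {m : ℕ} (hm : inE m = true) (h : popcount m = 16) : IsConj (ge mz) (ge m) := by
  refine conj_z_of_tr (Co2Type.FactsD.ge_sq hm) ?_
  show tr (mo2 m idP) = -8
  rw [tr_E hm, h]
  norm_num

theorem ne_one_of_tr {x : Spor.Co2} (h : tr x ≠ 24) : x ≠ 1 := by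
  rintro rfl
  exact h tr_one

/-! ### Sylow 2-subgroups of the centralisers -/

/-- `C_T(w)` is a Sylow 2-subgroup of `C(w)` if it has maximal order among the `C_T(x)`, `x` conjugate to `w`. -/
theorem max_of_bound {w : Spor.Co2} (hw : w ∈ T)
    (hb : ∀ x ∈ T, IsConj w x → Nat.card (cent T x) ≤ Nat.card (cent T w)) (P : Subgroup Spor.Co2)
    (hP : IsPGroup 2 ↥P) (hle : cent T w ≤ P) (hPw : ∀ s ∈ P, s * w = w * s) : P = cent T w := by
  have := finite_co2
  have : Fact (Nat.Prime 2) := ⟨Nat.prime_two⟩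
  obtain ⟨S, hS⟩ := hP.exists_le_sylow
  obtain ⟨g, hg⟩ := MulAction.exists_smul_eq Spor.Co2 S TSyl
  have hmem : ∀ x ∈ P, g * x * g⁻¹ ∈ T := by
    intro x hx
    have h2 : g * x * g⁻¹ ∈ ((g • S : Sylow 2 Spor.Co2) : Subgroup Spor.Co2) := by
      rw [Sylow.coe_subgroup_smul]
      exact ⟨x, hS hx, rfl⟩
    rw [hg] at h2
    exact h2
  have hwP : w ∈ P := hle (mem_cent.2 ⟨hw, rfl⟩)
  have h1 := hb (g * w * g⁻¹) (hmem w hwP) (isConj_iff.2 ⟨g, rfl⟩)
  have h2 : P.map (MulAut.conj g).toMonoidHom ≤ cent T (g * w * g⁻¹) := by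
    rintro _ ⟨x, hx, rfl⟩
    refine mem_cent.2 ⟨hmem x hx, ?_⟩
    show g * w * g⁻¹ * (g * x * g⁻¹) = g * x * g⁻¹ * (g * w * g⁻¹)
    have h3 := hPw x hx
    calc g * w * g⁻¹ * (g * x * g⁻¹) = g * (w * x) * g⁻¹ := by group
      _ = g * (x * w) * g⁻¹ := by rw [h3]
      _ = _ := by group
  have h3 := Subgroup.card_le_of_le h2
  rw [← Nat.card_congr (P.equivMapOfInjective _ (MulAut.conj g).injective).toEquiv] at h3
  exact (Subgroup.eq_of_le_of_card_ge hle (h3.trans h1)).symm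

theorem bound_y {x : Spor.Co2} (hx : x ∈ T) (h : IsConj (ge my) x) : Nat.card (cent T x) ≤ 2 ^ 17 := by
  have := finite_co2
  have h1 : Nat.card (cent T x) ∣ 2 ^ 18 := by
    rw [← card_T]
    exact Subgroup.card_dvd_of_le inf_le_left
  obtain ⟨k, hk, hk'⟩ := (Nat.dvd_prime_pow Nat.prime_two).1 h1
  rcases Nat.lt_or_ge k 18 with h2 | h2
  · rw [hk']
    exact Nat.pow_le_pow_right (by norm_num) (by omega)
  · exfalso
    have h3 : k = 18 := by omega
    have h4 : cent T x = T := by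
      apply Subgroup.eq_of_le_of_card_ge inf_le_left
      show Nat.card T ≤ Nat.card (cent T x)
      rw [card_T, hk', h3]
    have h5 := center_T x hx fun s hs => by
      rw [← h4] at hs
      exact (mem_cent.1 hs).2.symm
    have h6 := tr_of_isConj h
    rcases h5 with h5 | h5
    · rw [h5, Co2Type.FactsD.tr_y, tr_one] at h6; omega
    · rw [h5, Co2Type.FactsD.tr_y, Co2Type.FactsD.tr_z] at h6; omega

/-- `|C_T(e)| ≤ |T| / n` if the element `e` of `E` has `n` images under `T` -/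
theorem card_cent_of_images {c : ℕ} (hc : inE c = true) {F : List ℕ} (hF : ∀ P ∈ F, P ∈ L22)
    (hnd : (imgs F c).Nodup) : F.length * Nat.card (cent T (ge c)) ≤ 2 ^ 18 := by
  have := finite_co2
  let f : Fin F.length × ↥(cent T (ge c)) → ↥T := fun p =>
    ⟨mo2 0 (F.get p.1) * p.2, T.mul_mem (mo2_mem_T inE_zero (hF _ (List.get_mem _ _))) (mem_cent.1 p.2.2).1⟩
  have hf : Function.Injective f := by
    rintro ⟨i, h⟩ ⟨j, h'⟩ he
    have e1 : mo2 0 (F.get i) * (h : Spor.Co2) = mo2 0 (F.get j) * h' := congrArg Subtype.val he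
    have key : ∀ (i : Fin F.length) (h : ↥(cent T (ge c))),
        (mo2 0 (F.get i) * (h : Spor.Co2)) * ge c * (mo2 0 (F.get i) * (h : Spor.Co2))⁻¹ = ge (pimg (F.get i) c) := by
      intro i h
      have hP := hF _ (List.get_mem F i)
      have h1 : ge c * h = h * ge c := (mem_cent.1 h.2).2
      have h2 := mo2_conj_E inE_zero hc (okP_of_mem hP) (lt_of_mem hP)
      calc (mo2 0 (F.get i) * (h : Spor.Co2)) * ge c * (mo2 0 (F.get i) * (h : Spor.Co2))⁻¹
          = mo2 0 (F.get i) * ((h : Spor.Co2) * ge c) * (h : Spor.Co2)⁻¹ * (mo2 0 (F.get i))⁻¹ := by group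
        _ = (mo2 0 (F.get i) * mo2 c idP) * (mo2 0 (F.get i))⁻¹ := by rw [← h1]; unfold ge; group
        _ = ge (pimg (F.get i) c) := by rw [h2]; unfold ge; group
    have h3 : ge (pimg (F.get i) c) = ge (pimg (F.get j) c) := by
      rw [← key i h, ← key j h', e1]
    have hi := hF _ (List.get_mem F i)
    have hj := hF _ (List.get_mem F j)
    have h4 : pimg (F.get i) c = pimg (F.get j) c :=
      (mo2_inj (inE_pimg (okP_of_mem hi) hc) (inE_pimg (okP_of_mem hj) hc) okP_idP okP_idP idP_lt idP_lt h3).1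
    have h5 : i = j := by
      have h6 := List.nodup_iff_injective_get.1 hnd
      have h7 : (imgs F c).get ⟨i, by unfold imgs; rw [List.length_map]; exact i.2⟩ =
          (imgs F c).get ⟨j, by unfold imgs; rw [List.length_map]; exact j.2⟩ := by
        simpa [imgs] using h4
      have h8 := h6 h7
      exact Fin.ext (Fin.mk.inj_iff.1 h8)
    subst h5
    have h6 := mul_left_cancel e1
    exact Prod.ext rfl (Subtype.ext h6)
  have h1 := Nat.card_le_card_of_injective f hf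
  rwa [Nat.card_prod, Nat.card_fin, card_T] at h1

theorem bound_v {x : Spor.Co2} (hx : x ∈ T) (h : IsConj (ge mv) x) : Nat.card (cent T x) ≤ 2 ^ 15 := by
  have hsq := Cfsg.Agent.Co2Type.FactsClass.sq_of_isConj iv h
  obtain ⟨c, P, hc, hP, rfl⟩ := mem_T_iff.1 hx
  obtain ⟨h1, h2⟩ := (Cfsg.Agent.Co2Type.TClass.sq_eq_one_iff hc hP).1 hsq
  by_cases hid : P = idP
  · subst hid
    have ht := tr_of_isConj h
    rw [Co2Type.FactsD.tr_v, tr_E hc] at ht
    have h12 : popcount c = 12 := by omega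
    have hFm : ∀ P ∈ F1 ++ F2 ++ F3 ++ F4, P ∈ L22 := fun P hP => memL_iff.1 (List.all_eq_true.1 chkF P hP)
    have hfin : ∀ F : List ℕ, F.length = 8 → (∀ P ∈ F, P ∈ L22) → nodupL (imgs F c) = true →
        Nat.card (cent T (mo2 c idP)) ≤ 2 ^ 15 := by
      intro F hl hF hn
      have h3 := card_cent_of_images hc hF (nodup_of_nodupL hn)
      rw [hl] at h3
      have h4 : Nat.card (cent T (ge c)) ≤ 2 ^ 15 := by omega
      exact h4
    have hF1 : ∀ P ∈ F1, P ∈ L22 := fun P hP => hFm P (by simp [hP])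
    have hF2 : ∀ P ∈ F2, P ∈ L22 := fun P hP => hFm P (by simp [hP])
    have hF3 : ∀ P ∈ F3, P ∈ L22 := fun P hP => hFm P (by simp [hP])
    have hF4 : ∀ P ∈ F4, P ∈ L22 := fun P hP => hFm P (by simp [hP])
    have h3 : imgs F1 0 = [0, 0, 0, 0, 0, 0, 0, 0] := by decide +kernel
    have h4 := chkD1
    rw [← chkBV, ← h3] at h4
    have h5 := allSpV_spec (imgs_xor fun P hP => isPerm_of_mem (hF1 P hP)) h4 c (sp_B10 hc)
    rw [Nat.zero_xor, h12, Nat.beq_refl, cond_true, Bool.or_eq_true] at h5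
    rcases h5 with h5 | h5
    · exact hfin F1 rfl hF1 h5
    · have h6 := List.all_eq_true.1 chkD2 c (memL_iff.1 h5)
      rw [Bool.or_eq_true, Bool.or_eq_true] at h6
      rcases h6 with (h6 | h6) | h6
      · exact hfin F2 rfl hF2 h6
      · exact hfin F3 rfl hF3 h6
      · exact hfin F4 rfl hF4 h6
  · obtain ⟨r, hr, rfl⟩ := Cfsg.Agent.Co2Type.TClass.exists_row hP h1 hid
    have h3 := card_cent_le hr hc
    have h4 := Nat.le_of_ble_eq_true (List.all_eq_true.1 rows_bound r hr)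
    have h5 := h3.trans h4
    have e2 : (16384 : ℕ) ≤ 2 ^ 15 := by norm_num
    exact h5.trans e2

/-! ### the centre modulo `w` -/

theorem ge_inv {m : ℕ} (hm : inE m = true) : (ge m)⁻¹ = ge m := inv_eq_of_mul_eq_one_left (Co2Type.FactsD.ge_sq hm)

theorem centre_mod {mw : ℕ} (hmw : inE mw = true)
    (hchk : (L22.all fun P => Nat.beq P idP || B10.any fun n => !(inW mw (Nat.xor n (pimg P n)))) = true)
    {v' : Spor.Co2} (hv : v' ∈ cent T (ge mw))
    (hc : ∀ s ∈ cent T (ge mw), s * v' * s⁻¹ = v' ∨ s * v' * s⁻¹ = v' * ge mw) :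
    ∃ m, inE m = true ∧ v' = ge m ∧ ∀ P ∈ L22, pimg P mw = mw → inW mw (Nat.xor m (pimg P m)) = true := by
  obtain ⟨hvT, hvw⟩ := mem_cent.1 hv
  obtain ⟨m, P, hm, hP, rfl⟩ := mem_T_iff.1 hvT
  have hPw : pimg P mw = mw := (comm_E_iff hm hmw (okP_of_mem hP) (lt_of_mem hP)).1 hvw.symm
  have hid : P = idP := by
    have h1 := List.all_eq_true.1 hchk P hP
    rw [Bool.or_eq_true, List.any_eq_true] at h1
    rcases h1 with h1 | ⟨n, hn, h1⟩
    · exact Nat.eq_of_beq_eq_true h1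
    · exfalso
      have hn' : inE n = true := List.all_eq_true.1 chkB10 n hn
      have hs : ge n ∈ cent T (ge mw) := mem_cent.2 ⟨ge_mem_T hn', by rw [ge_mul hmw hn', ge_mul hn' hmw, Nat.xor_comm]⟩
      have e1 : ge n * mo2 m P * (ge n)⁻¹ = mo2 (n ^^^ m ^^^ pimg P n) P := by
        rw [ge_inv hn']
        show mo2 n idP * mo2 m P * mo2 n idP = _
        rw [mo2_mul_left hn' hm (okP_of_mem hP), mo2_mul (inE_xor hn' hm) hn' (okP_of_mem hP) okP_idP,
          pcomp_idP (ok_of_mem hP) (lt_of_mem hP)]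
      have hnm : inE (n ^^^ m ^^^ pimg P n) = true := inE_xor (inE_xor hn' hm) (inE_pimg (okP_of_mem hP) hn')
      have h2 : inW mw (Nat.xor n (pimg P n)) = true := by
        rw [inW_iff]
        have hx : ∀ t : ℕ, n ^^^ m ^^^ pimg P n = t → n ^^^ pimg P n = m ^^^ t := by
          intro t ht
          rw [← ht]
          apply Nat.eq_of_testBit_eq
          intro i
          simp only [Nat.testBit_xor]
          cases n.testBit i <;> cases m.testBit i <;> cases (pimg P n).testBit i <;> rfl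
        rcases hc _ hs with h3 | h3
        · left
          rw [e1] at h3
          have h4 := (mo2_injT hnm hm hP hP h3).1
          have h5 := hx _ h4
          rw [Nat.xor_self] at h5
          exact h5
        · right
          have e2 : mo2 m P * ge mw = mo2 (m ^^^ mw) P := by
            show mo2 m P * mo2 mw idP = _
            rw [mo2_mul hm hmw (okP_of_mem hP) okP_idP, pcomp_idP (ok_of_mem hP) (lt_of_mem hP), hPw]
          rw [e1, e2] at h3
          have h4 := (mo2_injT hnm (inE_xor hm hmw) hP hP h3).1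
          have h5 := hx _ h4
          rw [← Nat.xor_assoc, Nat.xor_self, Nat.zero_xor] at h5
          exact h5
      rw [h2] at h1
      exact absurd h1 (by simp)
  subst hid
  refine ⟨m, hm, rfl, ?_⟩
  intro Q hQ hQw
  have hs : mo2 0 Q ∈ cent T (ge mw) := by
    refine mem_cent.2 ⟨mo2_mem_T inE_zero hQ, ?_⟩
    exact ((comm_E_iff inE_zero hmw (okP_of_mem hQ) (lt_of_mem hQ)).2 hQw).symm
  have e1 : mo2 0 Q * mo2 m idP * (mo2 0 Q)⁻¹ = mo2 (pimg Q m) idP := by
    rw [mo2_conj_E inE_zero hm (okP_of_mem hQ) (lt_of_mem hQ), mul_inv_cancel_right]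
  have hinj : ∀ {a b : ℕ}, inE a = true → inE b = true → mo2 a idP = mo2 b idP → a = b := fun ha hb h =>
    (mo2_inj ha hb okP_idP okP_idP idP_lt idP_lt h).1
  rw [inW_iff]
  rcases hc _ hs with h3 | h3
  · left
    rw [e1] at h3
    have h4 := hinj (inE_pimg (okP_of_mem hQ) hm) hm h3
    show m ^^^ pimg Q m = 0
    rw [h4, Nat.xor_self]
  · right
    rw [e1] at h3
    have e2 : mo2 m idP * ge mw = mo2 (m ^^^ mw) idP := ge_mul hm hmw
    rw [e2] at h3
    have h4 := hinj (inE_pimg (okP_of_mem hQ) hm) (inE_xor hm hmw) h3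
    show m ^^^ pimg Q m = mw
    rw [h4, ← Nat.xor_assoc, Nat.xor_self, Nat.zero_xor]

/-! ### `Bad` is impossible -/

theorem not16 {w : Spor.Co2} {N : Subgroup Spor.Co2} (h : Bad w N) {m : ℕ} (hm : inE m = true)
    (h16 : Nat.beq (popcount m) 16 = true) : ge m ∉ N := by
  intro hN
  have hA := A_of_pop hm (Nat.eq_of_beq_eq_true h16)
  refine h.non _ hN (Co2Type.FactsD.ge_sq hm) ?_ (cen_of_A hA)
  apply ne_one_of_tr
  rw [← tr_of_isConj hA, Co2Type.FactsD.tr_z]
  norm_num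

theorem ge_xor {N : Subgroup Spor.Co2} {a b : ℕ} (ha : inE a = true) (hb : inE b = true) (h1 : ge a ∈ N)
    (h2 : ge b ∈ N) : ge (a ^^^ b) ∈ N := by
  rw [← ge_mul ha hb]
  exact N.mul_mem h1 h2

/-- conjugation by a monomial element fixing the mask `mw` -/
theorem ge_pimg {mw : ℕ} (hmw : inE mw = true) {N : Subgroup Spor.Co2} (h : Bad (ge mw) N) {Q : ℕ} (hQ : okP Q = true)
    (hlt : Q < 2 ^ 120) (hQw : pimg Q mw = mw) {m : ℕ} (hm : inE m = true) (h1 : ge m ∈ N) : ge (pimg Q m) ∈ N := by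
  have hc : mo2 0 Q * ge mw = ge mw * mo2 0 Q := (comm_E_iff inE_zero hmw hQ hlt).2 hQw
  have h2 := h.norm _ hc _ h1
  have e1 : mo2 0 Q * ge m * (mo2 0 Q)⁻¹ = ge (pimg Q m) := by
    show mo2 0 Q * mo2 m idP * (mo2 0 Q)⁻¹ = mo2 (pimg Q m) idP
    rw [mo2_conj_E inE_zero hm hQ hlt, mul_inv_cancel_right]
  rwa [e1] at h2

theorem not_bad_y (N : Subgroup Spor.Co2) : ¬ Bad (ge my) N := by
  intro h
  have := finite_co2
  have hmax := max_of_bound (ge_mem_T iy) (by
    intro x hx hc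
    rw [cardy]
    exact bound_y hx hc)
  obtain ⟨v', hvN, hvS, hv1, hvw, hvc⟩ := exists_v h (S := cent T (ge my))
    (isPGroup_T.to_le inf_le_left) (fun s hs => (mem_cent.1 hs).2.symm) hmax
  obtain ⟨m, hm, rfl, hmc⟩ := centre_mod iy chkPy hvS hvc
  have hmem := chkMem
  simp only [Bool.and_eq_true, memL_iff, Nat.beq_eq] at hmem
  obtain ⟨⟨hP1, hP2, -⟩, hw1, hw2, -⟩ := hmem
  -- `m` is in the list
  have h1 := allSp2_pimg (isPerm_of_mem hP1) chkZy (sp_B10 hm)
  rw [hmc _ hP1 hw1, cond_true, hmc _ hP2 hw2, cond_true, memL_iff] at h1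
  have hyN : ge my ∈ N := h.mem
  have hG := chkGy
  simp only [Bool.and_eq_true, Nat.beq_eq, Nat.blt_eq] at hG
  obtain ⟨⟨⟨⟨g1, g2⟩, g3⟩, g4⟩, g5⟩ := hG
  -- `mp` is not in `N`
  have hp : ge mp ∉ N := by
    intro hp
    have h2 := ge_pimg iy h g1 g2 g3 ip hp
    have h3 := ge_xor (inE_xor ip g4) iy (ge_xor ip g4 hp h2) hyN
    exact not16 h (inE_xor (inE_xor ip g4) iy) (by
      rw [Nat.beq_eq]; exact g5) h3
  have hxy : ∀ {a : ℕ}, inE a = true → ge a ∈ N → ge (a ^^^ my) ∈ N := fun ha h1 => ge_xor ha iy h1 hyN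
  simp only [Zy, List.mem_cons, List.not_mem_nil, or_false] at h1
  rcases h1 with rfl | rfl | rfl | rfl | rfl | rfl | rfl | rfl
  · exact hv1 Co2Type.FactsD.ge_zero
  · exact hvw rfl
  · exact not16 h (inE_xor hm iy) (by decide +kernel) (hxy hm hvN)
  · exact not16 h hm (by decide +kernel) hvN
  · apply hp
    have h2 := hxy hm hvN
    have e : 4726026 ^^^ my = mp := by decide +kernel
    rwa [e] at h2
  · exact hp hvN
  · exact not16 h hm (by decide +kernel) hvN
  · exact not16 h hm (by decide +kernel) hvN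

theorem not_bad_v (N : Subgroup Spor.Co2) : ¬ Bad (ge mv) N := by
  intro h
  have := finite_co2
  have hmax := max_of_bound (ge_mem_T iv) (by
    intro x hx hc
    rw [cardv]
    exact bound_v hx hc)
  obtain ⟨v', hvN, hvS, hv1, hvw, hvc⟩ := exists_v h (S := cent T (ge mv))
    (isPGroup_T.to_le inf_le_left) (fun s hs => (mem_cent.1 hs).2.symm) hmax
  obtain ⟨m, hm, rfl, hmc⟩ := centre_mod iv chkPv hvS hvc
  have hmem := chkMem
  simp only [Bool.and_eq_true, memL_iff, Nat.beq_eq] at hmem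
  obtain ⟨⟨-, -, hP1⟩, -, -, hw1⟩ := hmem
  have h1 := allSp2_pimg (isPerm_of_mem hP1) chkZv (sp_B10 hm)
  rw [hmc _ hP1 hw1, cond_true, memL_iff] at h1
  have hyN : ge mv ∈ N := h.mem
  have hG := chkGv
  simp only [Bool.and_eq_true, Nat.beq_eq, Nat.blt_eq] at hG
  obtain ⟨⟨⟨⟨⟨⟨⟨⟨⟨g1, g2⟩, g3⟩, g4⟩, g5⟩, g6⟩, g7⟩, g8⟩, g9⟩, g10⟩ := hG
  have hp : ge 277580 ∉ N := by
    intro hp
    have h2 := ge_pimg iv h g1 g2 g3 g9 hp
    have h3 := ge_pimg iv h g4 g5 g6 g9 hp
    have h4 := ge_xor (inE_xor g9 g7) g8 (ge_xor g9 g7 hp h2) h3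
    exact not16 h (inE_xor (inE_xor g9 g7) g8) (by rw [Nat.beq_eq]; exact g10) h4
  have hxy : ∀ {a : ℕ}, inE a = true → ge a ∈ N → ge (a ^^^ mv) ∈ N := fun ha h1 => ge_xor ha iv h1 hyN
  simp only [Zv, List.mem_cons, List.not_mem_nil, or_false] at h1
  rcases h1 with rfl | rfl | rfl | rfl | rfl | rfl | rfl | rfl
  · exact hv1 Co2Type.FactsD.ge_zero
  · exact hp hvN
  · exact not16 h hm (by decide +kernel) hvN
  · exact not16 h hm (by decide +kernel) hvN
  · exact not16 h (inE_xor hm iv) (by decide +kernel) (hxy hm hvN)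
  · exact not16 h hm (by decide +kernel) hvN
  · exact hvw rfl
  · apply hp
    have h2 := hxy hm hvN
    have e : 8126628 ^^^ mv = 277580 := by decide +kernel
    rwa [e] at h2

/-- **`Bad` is impossible in `Co₂`.** -/
theorem not_bad (w : Spor.Co2) (N : Subgroup Spor.Co2) : ¬ Bad w N := by
  intro h
  have := finite_co2
  rcases classes h.sq h.ne with hc | hc | hc
  · exact h.non w h.mem h.sq h.ne (cen_of_A hc)
  · obtain ⟨N', hN'⟩ := bad_of_isConj h hc.symm
    exact not_bad_y N' hN'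
  · obtain ⟨N', hN'⟩ := bad_of_isConj h hc.symm
    exact not_bad_v N' hN'

/-! ### `O(C(w)) = 1` -/

theorem bal_E {m : ℕ} (hm : inE m = true) (I : Subgroup Spor.Co2) (hI : ∀ i ∈ I, i * ge m = ge m * i)
    (hn : ∀ c : Spor.Co2, c * ge m = ge m * c → ∀ i ∈ I, c * i * c⁻¹ ∈ I) (hodd : Odd (Nat.card ↥I)) : I = ⊥ := by
  have := finite_co2
  -- every involution of class 2A in `E` inverts `I`
  have hinv : ∀ a : ℕ, inE a = true → IsConj (ge mz) (ge a) → ∀ x ∈ I, ge a * x * (ge a)⁻¹ = x⁻¹ := by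
    intro a ha hA
    obtain ⟨g, hg⟩ := isConj_iff.1 hA
    have hL := CoTwo.RLarge.large.conj g
    rw [hg] at hL
    have hp : IsPGroup 2 ↥(CoTwo.RSub.R.map (MulAut.conj g).toMonoidHom) := by
      apply IsPGroup.map
      rw [IsPGroup.iff_card]
      exact ⟨9, CoTwo.RLarge.card_R⟩
    have hcomm : ge m * ge a = ge a * ge m := by rw [ge_mul hm ha, ge_mul ha hm, Nat.xor_comm]
    apply KFacts.Co3D4.inverts hodd (Co2Type.FactsD.ge_sq ha)
    · intro x hx
      exact hn _ hcomm.symm x hx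
    · intro x hx hxa
      exact eq_one_of_large hL hp (Co2Type.FactsD.ge_sq hm) hcomm hI hn hodd x hx hxa
  have hA := Co2Type.FactsCo2.cls
  have h1 := hinv ma ia hA.aA
  have h2 := hinv mb ib hA.bA
  have h3 := hinv mc ic hA.cA
  have h4 := hinv md id' hA.dA
  have h5 := hA.abcdA
  rw [ge_mul ia ib, ge_mul (inE_xor ia ib) ic, ge_mul (inE_xor (inE_xor ia ib) ic) id'] at h5
  have h6 := hinv _ (inE_xor (inE_xor (inE_xor ia ib) ic) id') h5
  have e : ge (ma ^^^ mb ^^^ mc ^^^ md) = ge ma * ge mb * ge mc * ge md := by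
    rw [ge_mul ia ib, ge_mul (inE_xor ia ib) ic, ge_mul (inE_xor (inE_xor ia ib) ic) id']
  rw [Subgroup.eq_bot_iff_forall]
  intro x hx
  apply KFacts.Co3D4.eq_one_of_odd hodd hx
  have e1 : ge (ma ^^^ mb ^^^ mc ^^^ md) * x * (ge (ma ^^^ mb ^^^ mc ^^^ md))⁻¹ = x := by
    rw [e]
    have hi := I.inv_mem hx
    calc ge ma * ge mb * ge mc * ge md * x * (ge ma * ge mb * ge mc * ge md)⁻¹
        = ge ma * (ge mb * (ge mc * (ge md * x * (ge md)⁻¹) * (ge mc)⁻¹) * (ge mb)⁻¹) * (ge ma)⁻¹ := by group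
      _ = x := by rw [h4 x hx, h3 _ hi, inv_inv, h2 x hx, h1 _ hi, inv_inv]
  rw [h6 x hx] at e1
  calc x * x = x⁻¹ * x := by rw [e1]
    _ = 1 := inv_mul_cancel x

theorem bal (a : Spor.Co2) (ha : a * a = 1) (ha1 : a ≠ 1) (I : Subgroup Spor.Co2) (hI : ∀ i ∈ I, i * a = a * i)
    (hn : ∀ c : Spor.Co2, c * a = a * c → ∀ i ∈ I, c * i * c⁻¹ ∈ I) (hodd : Odd (Nat.card ↥I)) : I = ⊥ := by
  have key : ∀ m : ℕ, inE m = true → IsConj (ge m) a → I = ⊥ := by
    intro m hm hc
    obtain ⟨g, hg⟩ := isConj_iff.1 hc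
    exact Spor.bal_of_one (z := ge m) (fun J h1 h2 h3 => bal_E hm J h1 h2 h3) hg I hI hn hodd
  rcases classes ha ha1 with hc | hc | hc
  · exact key mz iz hc
  · exact key my iy hc
  · exact key mv iv hc

/-! ### the sheet -/

theorem z1 (S : Sylow 2 Spor.Co2) (a : Spor.Co2) (ha : a ∈ S) (ha1 : a ≠ 1)
    (hac : ∀ s ∈ S, s * a = a * s) (b : Spor.Co2) (hb : b ∈ S) (hb1 : b ≠ 1)
    (hbc : ∀ s ∈ S, s * b = b * s) : a = b := by
  have := finite_co2
  have : Fact (Nat.Prime 2) := ⟨Nat.prime_two⟩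
  obtain ⟨g, hg⟩ := MulAction.exists_smul_eq Spor.Co2 S TSyl
  have key : ∀ a : Spor.Co2, a ∈ S → a ≠ 1 → (∀ s ∈ S, s * a = a * s) → g * a * g⁻¹ = ge mz := by
    intro a ha ha1 hac
    have hmem : ∀ x ∈ S, g * x * g⁻¹ ∈ T := by
      intro x hx
      have h2 : g * x * g⁻¹ ∈ ((g • S : Sylow 2 Spor.Co2) : Subgroup Spor.Co2) := by
        rw [Sylow.coe_subgroup_smul]
        exact ⟨x, hx, rfl⟩
      rw [hg] at h2
      exact h2
    have hmem' : ∀ x ∈ T, g⁻¹ * x * g ∈ S := by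
      intro x hx
      have h2 : x ∈ ((g • S : Sylow 2 Spor.Co2) : Subgroup Spor.Co2) := by rw [hg]; exact hx
      rw [Sylow.coe_subgroup_smul] at h2
      obtain ⟨y, hy, hyx⟩ := h2
      have hyx' : g * y * g⁻¹ = x := hyx
      rw [← hyx']
      have : g⁻¹ * (g * y * g⁻¹) * g = y := by group
      rw [this]; exact hy
    have h1 := center_T _ (hmem a ha) (by
      intro s hs
      have h2 := hac _ (hmem' s hs)
      calc s * (g * a * g⁻¹) = g * ((g⁻¹ * s * g) * a) * g⁻¹ := by group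
        _ = g * (a * (g⁻¹ * s * g)) * g⁻¹ := by rw [h2]
        _ = g * a * g⁻¹ * s := by group)
    rcases h1 with h1 | h1
    · exfalso
      apply ha1
      calc a = g⁻¹ * (g * a * g⁻¹) * g := by group
        _ = 1 := by rw [h1]; group
    · exact h1
  have h1 := key a ha ha1 hac
  have h2 := key b hb hb1 hbc
  calc a = g⁻¹ * (g * a * g⁻¹) * g := by group
    _ = g⁻¹ * (g * b * g⁻¹) * g := by rw [h1, h2]
    _ = b := by group

theorem sheet_co2 (hout : ∀ α : MulAut Spor.Co2, Spor.Inn α) : Spor.Sheet Spor.Co2 := by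
  have := finite_co2
  exact
    { out := Spor.out_of_inn hout
      schreier := Spor.schreier_of_inn hout
      sylAut := Spor.sylAut_of_inn hout
      z1 := fun S a ha _ ha1 hac b hb _ hb1 hbc => z1 S a ha ha1 hac b hb hb1 hbc
      bal := bal
      out2 := Spor.out2_of_inn hout
      tab := Spor.tab_of_not_bad not_bad }

/-- **The sheet of kind D4 of `Co₂`**, given `Out(Co₂) = 1`. -/
theorem sheet {X : Type*} [Group X] (h : Cfsg.Spor.IsoCo2 X) (hout : ∀ α : MulAut X, Spor.Inn α) :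
    Spor.Sheet X := by
  obtain ⟨e⟩ := h
  refine Spor.Sheet.of_equiv e.symm (sheet_co2 fun α => ?_)
  exact (Spor.inn_iff e).1 (hout _)

end Cfsg.Agent.KFacts.Co2D4
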