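import Cfsg.Agent.KFacts.Co2D4.Main
import Cfsg.Agent.KFacts.CoTwo.Main

/-!
# The sheet of kind D4 of `Co₂`
-/

set_option autoImplicit false

namespace Cfsg.Agent.KFacts.Co2D4

/-- **The sheet of kind D4 of `Co₂`.** -/
theorem sheetD4 {X : Type*} [Group X] (h : Cfsg.Spor.IsoCo2 X) : OddHalf.D4.Spor.Sheet X := by
  obtain ⟨e⟩ := h
  exact sheet ⟨e⟩ fun α => Cfsg.Agent.KFacts.CoTwo.Main.allInner_iso e α

end Cfsg.Agent.KFacts.Co2D4
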